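import Cfsg.Prelude.Def_SporCoxeter

/-! The graph Y222 with a central tenth power of the spider word. -/

set_option autoImplicit false

namespace Cfsg.Agent.Lib.Fi22Mult.Y222

/-- The seven nodes. -/
inductive Gen
  | b
  | c
  | d
  | e
  | f
  | h
  | i
  deriving DecidableEq

/-- The graph: arms d–c–b, d–e–f, d–h–i. -/
def edges : List (Gen × ℕ × Gen) :=
  [(.b, 3, .c), (.c, 3, .d), (.d, 3, .e), (.e, 3, .f), (.d, 3, .h), (.h, 3, .i)]

/-- A node as a word. -/
abbrev w (x : Gen) : FreeGroup Gen := FreeGroup.of x

/-- The tenth power of the spider word. -/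
abbrev spider : FreeGroup Gen :=
  (w .d * w .c * w .b * w .d * w .e * w .f * w .d * w .h * w .i) ^ 10

/-- The same product read backwards. -/
abbrev spiderRev : FreeGroup Gen :=
  (w .i * w .h * w .d * w .f * w .e * w .d * w .b * w .c * w .d) ^ 10

/-- The spider power commutes with every node. -/
def extra : List (FreeGroup Gen) :=
  [.b, .c, .d, .e, .f, .h, .i].map fun x => spider * w x * spiderRev * w x

end Cfsg.Agent.Lib.Fi22Mult.Y222
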