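import Cfsg.Agent.Lib.Fi22Mult.Pres
import Cfsg.Agent.Lib.Fi22Mult.Y222
import Cfsg.Agent.Lib.CosetEnum.Y222x729.Enum
import Cfsg.Agent.Lib.CosetEnum.Fi22x3510.Enum
import Cfsg.Agent.Lib.CosetEnum.Fi22E6.Data
import Cfsg.Agent.Lib.CosetEnum.Fi22E6.Slp
import Cfsg.Agent.S1696

/-!
Facts from coset tables: a third word of type E7 is trivial in Fi22, and the cube of the tenth
power of the spider word is trivial in the cover.
-/

set_option autoImplicit false
set_option maxRecDepth 20000

namespace Cfsg.Agent.Lib.Fi22Mult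

open Cfsg.Spor
open Cfsg.Spor.Fi22 (edges)
open Cfsg.Spor.Fi22.Gen
open Cfsg.Agent.Lib.CosetEnum
open Cfsg.Agent.Lib.Coxeter Cfsg.Agent.Lib.Coxeter.WeylOrder

/-- The letter of a node. -/
noncomputable abbrev colOf (x : Node) : ℕ := Fi22x3510.letters.col x

theorem exists_faithful : ∃ ρ : Cfsg.Spor.Fi22 →* Equiv.Perm (Fin 3510), Function.Injective ρ ∧
    ∀ g < 9, ∀ i : Fin 3510,
      ((ρ (Fi22x3510.letters.phi _ g))⁻¹ i).1 = get32 Fi22x3510.table (i.1 * 9 + g) := by
  obtain ⟨ρ, hρ, -, htr⟩ := Fi22x3510.enum.action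
  haveI : IsSimpleGroup (PresentedGroup (coxRelators edges ∪ {r | r ∈ Cfsg.Spor.Fi22.extra})) :=
    Cfsg.Agent.S1696.result.1
  refine ⟨ρ, ?_, hρ⟩
  rw [← MonoidHom.ker_eq_bot_iff]
  rcases (MonoidHom.normal_ker ρ).eq_bot_or_eq_top with h | h
  · exact h
  · exfalso
    obtain ⟨x, hx⟩ := htr ⟨1, by omega⟩
    have h1 : ρ x = 1 := by rw [← MonoidHom.mem_ker, h]; trivial
    rw [h1] at hx
    exact absurd (congrArg Fin.val hx) (by decide)

theorem gen₂₂_eq (x : Node) : gen₂₂ x = Fi22x3510.letters.phi _ (colOf x) :=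
  (Letters.phi_col Fi22x3510.table_ok.col x).symm

theorem third_seven : wp gen₂₂ (List.replicate 9 [c, d, e, f, g, h, i]).flatten = 1 := by
  obtain ⟨ρ, hinj, hρ⟩ := exists_faithful
  have h : wp gen₂₂ [c, d, e, f, g, h, i] ^ 9 = 1 := by
    have e : wp gen₂₂ [c, d, e, f, g, h, i] =
        (([2, 3, 4, 5, 6, 7, 8] : List ℕ).map (Fi22x3510.letters.phi _)).prod := by
      simp only [wp, List.map_cons, List.map_nil, gen₂₂_eq]
      rfl
    rw [e]
    exact pow_eq_one_of_table Fi22x3510.letters _ ρ hρ hinj _ (by decide +kernel) 9 (by decide +kernel)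
  rw [wp_replicate, h]

/-- The seven nodes of the diagram Y222 among the nine. -/
def node₇ : Y222.Gen → Node
  | .b => b | .c => c | .d => d | .e => e | .f => f | .h => h | .i => i

/-- The spider on seven nodes. -/
def spider₇ : List Y222.Gen := (List.replicate 10 [.d, .c, .b, .d, .e, .f, .d, .h, .i]).flatten

theorem node₇_spider : spider₇.map node₇ = spider := by decide +kernel

theorem label₇ : ∀ x y : Y222.Gen, coxLabel Y222.edges x y = coxLabel edges (node₇ x) (node₇ y) := by
  intro x y
  cases x <;> cases y <;> rfl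

theorem extra₇ : Y222.extra = ([.b, .c, .d, .e, .f, .h, .i] : List Y222.Gen).map
    fun x => word (spider₇ ++ [x] ++ spider₇.reverse ++ [x]) := by
  decide +kernel

theorem rels₇ : ∀ r ∈ coxRelators Y222.edges ∪ {r | r ∈ Y222.extra},
    FreeGroup.lift (fun x => gen (node₇ x)) r = 1 := by
  rintro r (⟨x, -, y, -, rfl⟩ | hr)
  · rw [map_pow, map_mul, FreeGroup.lift_apply_of, FreeGroup.lift_apply_of, label₇]
    exact covers_gen.cox _ _
  · rw [Set.mem_setOf_eq, extra₇, List.mem_map] at hr
    obtain ⟨x, -, rfl⟩ := hr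
    have hrev : spider₇.reverse.map node₇ = spider.reverse := by rw [List.map_reverse, node₇_spider]
    rw [lift_word, ← wp_map, List.map_append, List.map_append, List.map_append, node₇_spider, hrev,
      wp_append, wp_append, wp_append, wp_reverse covers_gen.invol, List.map_cons, List.map_nil,
      wp_cons, wp_nil, mul_one, covers_gen.spider_comm, mul_inv_cancel_right, covers_gen.invol]

/-- The map from the group on seven nodes. -/
def theta : PresentedGroup (coxRelators Y222.edges ∪ {r | r ∈ Y222.extra}) →* Cover :=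
  PresentedGroup.toGroup rels₇

/-- The index of the diagram of type E6. -/
def idx₆ : Fin 6 → Node := ![b, h, c, d, e, f]

theorem matrix₆ : ∀ i j : Fin 6, CoxeterMatrix.E₆ i j = coxLabel edges (idx₆ i) (idx₆ j) := by
  intro i j
  fin_cases i <;> fin_cases j <;> rfl

theorem liftable₆ : CoxeterMatrix.IsLiftable CoxeterMatrix.E₆ fun i => gen (idx₆ i) := by
  intro i j
  rw [matrix₆]
  exact covers_gen.cox _ _

/-- The Weyl group of type E6 inside the cover. -/
noncomputable def weyl₆ : CoxeterMatrix.E₆.Group →* Cover :=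
  CoxeterMatrix.E₆.toCoxeterSystem.lift ⟨_, liftable₆⟩

theorem card₆ : Nat.card CoxeterMatrix.E₆.Group = 51840 := by
  rw [card_group _ Certs.checkE6]
  decide +kernel

theorem table₆ : (allBelow 3510 fun i => allBelow 6 fun k =>
    Nat.beq (get32 Fi22E6.table (i * 6 + k))
      (get32 Fi22x3510.table (i * 9 + [1, 7, 2, 3, 4, 5].getD k 0))) = true := by
  decide +kernel

theorem weyl₆_injective : Function.Injective (proj.comp weyl₆) := by
  obtain ⟨ρ, hinj, hρ⟩ := exists_faithful
  haveI : Finite CoxeterMatrix.E₆.Group := Nat.finite_of_card_ne_zero (by rw [card₆]; omega)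
  let τ := ρ.comp (proj.comp weyl₆)
  have hge : 51840 ≤ Nat.card τ.range := by
    refine Fi22E6.Slp.card_ge τ (fun j => WeylOrder.gen CoxeterMatrix.E₆ j) fun j hj i => ?_
    have ht := allBelow_iff.1 (allBelow_iff.1 table₆ i.1 i.2) j hj
    rw [Nat.beq_eq] at ht
    rw [ht]
    have e : proj (weyl₆ (WeylOrder.gen CoxeterMatrix.E₆ j)) =
        Fi22x3510.letters.phi _ ([1, 7, 2, 3, 4, 5].getD j 0) := by
      rw [WeylOrder.gen, dif_pos hj, weyl₆]
      have hl := CoxeterMatrix.E₆.toCoxeterSystem.lift_apply_simple liftable₆ ⟨j, hj⟩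
      erw [hl]
      rw [show proj (gen (idx₆ ⟨j, hj⟩)) = gen₂₂ (idx₆ ⟨j, hj⟩) from covers₂₂.hom_gen _, gen₂₂_eq]
      interval_cases j <;> rfl
    show (((ρ (proj (weyl₆ _)))⁻¹) i).1 = _
    rw [e]
    exact hρ _ (by interval_cases j <;> decide) i
  have hb : Function.Bijective τ.rangeRestrict :=
    (Nat.bijective_iff_surjective_and_card _).2 ⟨τ.rangeRestrict_surjective, by
      have := Nat.card_le_card_of_surjective τ.rangeRestrict τ.rangeRestrict_surjective
      rw [card₆] at this ⊢
      omega⟩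
  intro p q hpq
  refine hb.1 (Subtype.ext ?_)
  exact congrArg ρ hpq

theorem spider_cube_scan : scan Y222x729.letters.K Y222x729.table
    ((List.replicate 3 (spider₇.map Y222x729.letters.col)).flatten) 0 = 0 := by
  decide +kernel

theorem spider_cube : wp gen spider ^ 3 = 1 := by
  obtain ⟨ρ, hρ, hst, -⟩ := Y222x729.enum.action
  let L := (List.replicate 3 (spider₇.map Y222x729.letters.col)).flatten
  have hmem : (L.map (Y222x729.letters.phi Y222x729.pres)).prod ∈
      subOf Y222x729.letters Y222x729.pres Y222x729.subWords := by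
    have h := rho_scan Y222x729.letters _ ρ hρ L (by decide +kernel) ⟨0, by omega⟩
    rw [spider_cube_scan] at h
    rw [hst]
    exact (Equiv.Perm.inv_eq_iff_eq.1 (Fin.ext h)).symm
  have hθ : ∀ x : Y222.Gen, theta (Y222x729.letters.phi _ (Y222x729.letters.col x)) = gen (node₇ x) :=
    fun x => by
      rw [Letters.phi_col Y222x729.table_ok.col]
      exact PresentedGroup.toGroup.of rels₇
  have h1 : theta (L.map (Y222x729.letters.phi _)).prod = wp gen spider ^ 3 := by
    rw [← node₇_spider, ← wp_replicate, map_list_prod]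
    unfold wp
    simp only [L, List.map_flatten, List.map_replicate, List.map_map]
    congr 2
  have h2 : theta (L.map (Y222x729.letters.phi _)).prod ∈ weyl₆.range := by
    refine (Subgroup.map_le_iff_le_comap.2 ?_ : (subOf Y222x729.letters _ Y222x729.subWords).map theta
      ≤ weyl₆.range) ⟨_, hmem, rfl⟩
    rw [subOf, Subgroup.closure_le]
    rintro _ ⟨l, hl, rfl⟩
    rw [SetLike.mem_coe, Subgroup.mem_comap]
    have hg : ∀ i : Fin 6, gen (idx₆ i) ∈ weyl₆.range := fun i =>
      ⟨CoxeterMatrix.E₆.simple i, CoxeterMatrix.E₆.toCoxeterSystem.lift_apply_simple liftable₆ i⟩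
    simp only [Y222x729.subWords, List.mem_cons, List.not_mem_nil, or_false] at hl
    rcases hl with rfl | rfl | rfl | rfl | rfl | rfl <;>
      rw [List.map_cons, List.map_nil, List.prod_cons, List.prod_nil, mul_one]
    · rw [show (0 : ℕ) = Y222x729.letters.col .b from rfl, hθ]; exact hg 0
    · rw [show (1 : ℕ) = Y222x729.letters.col .c from rfl, hθ]; exact hg 2
    · rw [show (2 : ℕ) = Y222x729.letters.col .d from rfl, hθ]; exact hg 3
    · rw [show (3 : ℕ) = Y222x729.letters.col .e from rfl, hθ]; exact hg 4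
    · rw [show (4 : ℕ) = Y222x729.letters.col .f from rfl, hθ]; exact hg 5
    · rw [show (5 : ℕ) = Y222x729.letters.col .h from rfl, hθ]; exact hg 1
  rw [h1] at h2
  obtain ⟨w, hw⟩ := h2
  have hw1 : proj.comp weyl₆ w = proj.comp weyl₆ 1 := by
    rw [map_one, MonoidHom.comp_apply, hw, map_pow]
    rw [show proj (wp gen spider) = wp gen₂₂ spider from covers₂₂.hom_wp _, words₂₂.1, one_pow]
  rw [← hw, weyl₆_injective hw1, map_one]

end Cfsg.Agent.Lib.Fi22Mult
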