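import Cfsg.Agent.Lib.Fi22Mult.Pres
import Cfsg.Prelude.Def_KGroupFacts
import Cfsg.Agent.Lib.Fi22Mult.Facts

/-!
Every central extension of Fi22 receives a lift of the generators satisfying the relations of the
cover.
-/

set_option autoImplicit false
set_option maxRecDepth 20000

namespace Cfsg.Agent.Lib.Fi22Mult

open Cfsg.Spor
open Cfsg.Spor.Fi22 (edges)
open Cfsg.Spor.Fi22.Gen
open Cfsg.Agent.Lib.Coxeter Cfsg.Agent.Lib.Coxeter.WeylOrder

/-- The index of the diagram of type E7 inside the first seven nodes. -/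
def idx₁ : Fin 7 → Node := ![f, h, e, d, c, b, a]

/-- The index of the second diagram of type E7. -/
def idx₂ : Fin 7 → Node := ![b, h, c, d, e, f, g]

/-- Twice the first word, in indices. -/
def twice₁ : List ℕ := (List.replicate 18 [6, 5, 4, 3, 2, 0, 1]).flatten

/-- Twice the second word, in indices. -/
def twice₂ : List ℕ := (List.replicate 18 [0, 2, 3, 4, 5, 6, 1]).flatten

theorem label_cases : ∀ x y : Node,
    (coxLabel edges x y = 1 ∧ x = y) ∨ coxLabel edges x y = 2 ∨ coxLabel edges x y = 3 := by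
  decide +kernel

theorem matrix₁ : ∀ i j : Fin 7, CoxeterMatrix.E₇ i j = coxLabel edges (idx₁ i) (idx₁ j) := by
  intro i j
  fin_cases i <;> fin_cases j <;> rfl

theorem matrix₂ : ∀ i j : Fin 7, CoxeterMatrix.E₇ i j = coxLabel edges (idx₂ i) (idx₂ j) := by
  intro i j
  fin_cases i <;> fin_cases j <;> rfl

theorem trivial₁ : genProd CoxeterMatrix.E₇ twice₁ = 1 :=
  (WeylSmall.eq_of_wordsEq (w := twice₁) (w' := []) Certs.checkE7 (by decide +kernel)).trans
    (by simp [genProd])

theorem trivial₂ : genProd CoxeterMatrix.E₇ twice₂ = 1 :=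
  (WeylSmall.eq_of_wordsEq (w := twice₂) (w' := []) Certs.checkE7 (by decide +kernel)).trans
    (by simp [genProd])

theorem twice₁_nodes : twice₁.map (fun j => if h : j < 7 then idx₁ ⟨j, h⟩ else a) = seven₁ ++ seven₁ := by
  decide +kernel

theorem twice₂_nodes : twice₂.map (fun j => if h : j < 7 then idx₂ ⟨j, h⟩ else a) = seven₂ ++ seven₂ := by
  decide +kernel

variable {Γ : Type*} [Group Γ]

/-- The value of the square of a word of type E7 when the squares of the generators are a central
element `k`. -/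
theorem seven_sq {F : Node → Γ} {k : Γ} (hk : k ∈ Subgroup.center Γ)
    (hF : ∀ x y, (F x * F y) ^ coxLabel edges x y = k ^ coxLabel edges x y) :
    wp F seven₁ * wp F seven₁ = k ^ 63 ∧ wp F seven₂ * wp F seven₂ = k ^ 63 := by
  have key : ∀ (idx : Fin 7 → Node) (t : List ℕ) (L : List Node),
      (∀ i j, CoxeterMatrix.E₇ i j = coxLabel edges (idx i) (idx j)) →
      (∀ j ∈ t, j < 7) → genProd CoxeterMatrix.E₇ t = 1 → t.length = 2 * 63 →
      t.map (fun j => if h : j < 7 then idx ⟨j, h⟩ else a) = L ++ L →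
      wp F L * wp F L = k ^ 63 := by
    intro idx t L hM hlt h1 hlen hmap
    rw [← wp_append, ← hmap, wp_map,
      ← pow_of_coxeter k hk (fun i => F (idx i)) (fun i j => by rw [hM]; exact hF _ _) t hlt h1 63 hlen]
    unfold wp
    congr 1
    refine List.map_congr_left fun j hj => ?_
    simp [hlt j hj]
  exact ⟨key idx₁ twice₁ seven₁ matrix₁ (by decide +kernel) trivial₁ (by decide +kernel) twice₁_nodes,
    key idx₂ twice₂ seven₂ matrix₂ (by decide +kernel) trivial₂ (by decide +kernel) twice₂_nodes⟩

theorem cox_pow {F : Node → Γ} {k : Γ} (hk : k ∈ Subgroup.center Γ) (hsq : ∀ x, F x * F x = k)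
    (hbraid : ∀ x y, coxLabel edges x y = 3 → F x * F y * F x = F y * F x * F y)
    (hcomm : ∀ x y, coxLabel edges x y = 2 → F x * F y = F y * F x) :
    ∀ x y, (F x * F y) ^ coxLabel edges x y = k ^ coxLabel edges x y := by
  intro x y
  have hcm : ∀ g, g * k = k * g := Subgroup.mem_center_iff.1 hk
  rcases label_cases x y with ⟨h, rfl⟩ | h | h <;> rw [h]
  · rw [pow_one, pow_one, hsq]
  · calc (F x * F y) ^ 2 = F x * (F y * F x) * F y := by rw [sq]; group
      _ = F x * (F x * F y) * F y := by rw [hcomm x y h]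
      _ = (F x * F x) * (F y * F y) := by group
      _ = k ^ 2 := by rw [hsq, hsq, sq]
  · calc (F x * F y) ^ 3 = (F x * F y * F x) * (F y * F x * F y) := by
          rw [pow_succ, pow_succ, pow_one]; group
      _ = (F x * F y * F x) * (F x * F y * F x) := by rw [hbraid x y h]
      _ = F x * F y * (F x * F x) * F y * F x := by group
      _ = F x * (F y * k) * F y * F x := by rw [hsq]; group
      _ = F x * (k * F y) * F y * F x := by rw [hcm]
      _ = F x * k * (F y * F y) * F x := by group
      _ = F x * k * k * F x := by rw [hsq]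
      _ = F x * ((k * k) * F x) := by group
      _ = F x * (F x * (k * k)) := by
          have hkx : Commute k (F x) := (hcm (F x)).symm
          rw [(hkx.mul_left hkx).eq]
      _ = (F x * F x) * k * k := by group
      _ = k ^ 3 := by rw [hsq, pow_succ, pow_succ, pow_one]

variable (σ : Γ →* Cfsg.Spor.Fi22) (hσ : σ.ker ≤ Subgroup.center Γ)

include hσ

theorem central_of_one {z : Γ} (h : σ z = 1) : ∀ g, g * z = z * g :=
  Subgroup.mem_center_iff.1 (hσ (MonoidHom.mem_ker.2 h))

theorem fix_braid {X y₀ : Γ} {x y : Node} (hX : σ X = gen₂₂ x) (hy : σ y₀ = gen₂₂ y)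
    (h : coxLabel edges x y = 3) :
    ∃ Y, σ Y = gen₂₂ y ∧ X * Y * X = Y * X * Y := by
  have hb : gen₂₂ x * gen₂₂ y * gen₂₂ x = gen₂₂ y * gen₂₂ x * gen₂₂ y := by
    have h3 := covers₂₂.cox x y
    rw [h] at h3
    have ix := inv_eq_of_mul_eq_one_right (covers₂₂.invol x)
    have iy := inv_eq_of_mul_eq_one_right (covers₂₂.invol y)
    have : (gen₂₂ x * gen₂₂ y * gen₂₂ x) * (gen₂₂ y * gen₂₂ x * gen₂₂ y) = 1 := by
      rw [← h3, pow_succ, pow_succ, pow_one]; group
    rw [eq_inv_of_mul_eq_one_left this, mul_inv_rev, mul_inv_rev, ix, iy, mul_assoc]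
  set c := (X * y₀ * X) * (y₀ * X * y₀)⁻¹ with hc
  have hσc : σ c = 1 := by simp only [hc, map_mul, map_inv, hX, hy, hb]; group
  have hcm := central_of_one σ hσ hσc
  refine ⟨y₀ * c, by rw [map_mul, hσc, mul_one, hy], ?_⟩
  have h1 : X * y₀ * X = c * (y₀ * X * y₀) := by rw [hc]; group
  calc X * (y₀ * c) * X = X * y₀ * (c * X) := by group
    _ = X * y₀ * (X * c) := by rw [hcm]
    _ = c * (y₀ * X * y₀) * c := by rw [← h1]; group
    _ = (c * y₀) * X * (y₀ * c) := by group
    _ = (y₀ * c) * X * (y₀ * c) := by rw [hcm]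

theorem comm_step {X Y Z : Γ} (hxy : X * Y = Y * X) (hb : Y * Z * Y = Z * Y * Z)
    (hz : σ X * σ Z = σ Z * σ X) : X * Z = Z * X := by
  set a := Z⁻¹ * (X * Z * X⁻¹) with ha
  have hσa : σ a = 1 := by
    simp only [ha, map_mul, map_inv, hz]; group
  have hcm := central_of_one σ hσ hσa
  have hZ : X * Z * X⁻¹ = Z * a := by rw [ha]; group
  have h1 : X * (Y * Z * Y) * X⁻¹ = Y * Z * Y * a := by
    calc X * (Y * Z * Y) * X⁻¹ = (X * Y * X⁻¹) * (X * Z * X⁻¹) * (X * Y * X⁻¹) := by group
      _ = Y * Z * (a * Y) := by rw [hZ, hxy]; group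
      _ = _ := by rw [← hcm]; group
  have h2 : X * (Y * Z * Y) * X⁻¹ = Y * Z * Y * a * a := by
    calc X * (Y * Z * Y) * X⁻¹ = X * (Z * Y * Z) * X⁻¹ := by rw [hb]
      _ = (X * Z * X⁻¹) * (X * Y * X⁻¹) * (X * Z * X⁻¹) := by group
      _ = Z * (a * (Y * Z)) * a := by rw [hZ, hxy]; group
      _ = Z * (Y * Z * a) * a := by rw [← hcm (Y * Z)]
      _ = _ := by rw [hb]; group
  have ha1 : a = 1 := by
    have := h1.symm.trans h2
    simpa using this.symm
  rw [ha1, mul_one] at hZ
  exact mul_inv_eq_iff_eq_mul.1 hZ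

theorem factor_eq {X Y Z p q : Γ} (hp : σ p = 1) (hq : σ q = 1) (hy : X * Y * X⁻¹ = Y * p)
    (hz : X * Z * X⁻¹ = Z * q) (hb : Y * Z * Y = Z * Y * Z) : p = q := by
  have hpm := central_of_one σ hσ hp
  have hqm := central_of_one σ hσ hq
  have h1 : X * (Y * Z * Y) * X⁻¹ = Y * Z * Y * (p * q * p) := by
    calc X * (Y * Z * Y) * X⁻¹ = (X * Y * X⁻¹) * (X * Z * X⁻¹) * (X * Y * X⁻¹) := by group
      _ = Y * (p * Z) * (q * Y) * p := by rw [hy, hz]; group
      _ = Y * (Z * p) * (Y * q) * p := by rw [← hpm, ← hqm]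
      _ = Y * Z * (p * Y) * q * p := by group
      _ = Y * Z * (Y * p) * q * p := by rw [← hpm]
      _ = _ := by group
  have h2 : X * (Y * Z * Y) * X⁻¹ = Y * Z * Y * (q * p * q) := by
    rw [hb]
    calc X * (Z * Y * Z) * X⁻¹ = (X * Z * X⁻¹) * (X * Y * X⁻¹) * (X * Z * X⁻¹) := by group
      _ = Z * (q * Y) * (p * Z) * q := by rw [hy, hz]; group
      _ = Z * (Y * q) * (Z * p) * q := by rw [← hpm, ← hqm]
      _ = Z * Y * (q * Z) * p * q := by group
      _ = Z * Y * (Z * q) * p * q := by rw [← hqm]
      _ = _ := by group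
  have h3 : p * q * p = q * p * q := mul_left_cancel (h1.symm.trans h2)
  have h4 : p * q * p = p * q * q := by rw [h3, hqm p]
  exact mul_left_cancel h4

/-- Lifts satisfying the relations of the cover. -/
theorem exists_lift (hsurj : Function.Surjective σ) :
    ∃ F : Node → Γ, (∀ x, σ (F x) = gen₂₂ x) ∧ Covers F := by
  choose s hs using fun x => hsurj (gen₂₂ x)
  obtain ⟨C, hC, bdc⟩ := fix_braid σ hσ (hs d) (hs c) (x := d) (y := c) (by decide)
  obtain ⟨B, hB, bcb⟩ := fix_braid σ hσ hC (hs b) (x := c) (y := b) (by decide)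
  obtain ⟨A, hA, bba⟩ := fix_braid σ hσ hB (hs a) (x := b) (y := a) (by decide)
  obtain ⟨E, hE, bde⟩ := fix_braid σ hσ (hs d) (hs e) (x := d) (y := e) (by decide)
  obtain ⟨F, hF, bef⟩ := fix_braid σ hσ hE (hs f) (x := e) (y := f) (by decide)
  obtain ⟨G, hG, bfg⟩ := fix_braid σ hσ hF (hs g) (x := f) (y := g) (by decide)
  obtain ⟨H, hH, bdh⟩ := fix_braid σ hσ (hs d) (hs h) (x := d) (y := h) (by decide)
  obtain ⟨I, hI, bhi⟩ := fix_braid σ hσ hH (hs i) (x := h) (y := i) (by decide)
  let L : Node → Γ := fun x => match x with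
    | .a => A | .b => B | .c => C | .d => s d | .e => E | .f => F | .g => G | .h => H | .i => I
  have hσL : ∀ x, σ (L x) = gen₂₂ x := fun x => by
    cases x <;> first | exact hs d | assumption
  have hbr : ∀ x y, coxLabel edges x y = 3 → L x * L y * L x = L y * L x * L y := by
    intro x y h
    cases x <;> cases y <;>
      first | exact absurd h (by decide) | assumption | (symm; assumption)
  set k := s d * s d with hkdef
  have hσk : σ k = 1 := by rw [hkdef, map_mul, hs]; exact covers₂₂.invol d
  have hk : k ∈ Subgroup.center Γ := hσ (MonoidHom.mem_ker.2 hσk)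
  have hkm := Subgroup.mem_center_iff.1 hk
  have hsqe : ∀ {X Y : Γ}, X * Y * X = Y * X * Y → X * X = k → Y * Y = k := by
    intro X Y hb hx
    have h1 : Y = (X * Y) * X * (X * Y)⁻¹ := by rw [hb]; group
    calc Y * Y = ((X * Y) * X * (X * Y)⁻¹) * ((X * Y) * X * (X * Y)⁻¹) := by rw [← h1]
      _ = (X * Y) * (X * X) * (X * Y)⁻¹ := by group
      _ = k := by rw [hx, hkm, mul_inv_cancel_right]
  have kC := hsqe bdc rfl
  have kB := hsqe bcb kC
  have kA := hsqe bba kB
  have kE := hsqe bde rfl
  have kF := hsqe bef kE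
  have kG := hsqe bfg kF
  have kH := hsqe bdh rfl
  have kI := hsqe bhi kH
  have hsq : ∀ x, L x * L x = k := fun x => by cases x <;> first | rfl | assumption
  have hσc : ∀ x y, coxLabel edges x y = 2 → gen₂₂ x * gen₂₂ y = gen₂₂ y * gen₂₂ x := by
    intro x y h
    have h2 := covers₂₂.cox x y
    rw [h, sq] at h2
    rw [eq_inv_of_mul_eq_one_left h2, mul_inv_rev,
      inv_eq_of_mul_eq_one_right (covers₂₂.invol x), inv_eq_of_mul_eq_one_right (covers₂₂.invol y)]
  -- the factor of `a` with the nodes commuting with it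
  let t : Node → Γ := fun y => (L y)⁻¹ * (L a * L y * (L a)⁻¹)
  have htσ : ∀ y, coxLabel edges a y = 2 → σ (t y) = 1 := fun y h => by
    simp only [t, map_mul, map_inv, hσL, hσc a y h]; group
  have hty : ∀ y, L a * L y * (L a)⁻¹ = L y * t y := fun y => by simp only [t]; group
  have teq : ∀ y z, coxLabel edges a y = 2 → coxLabel edges a z = 2 → coxLabel edges y z = 3 →
      t y = t z := fun y z h1 h2 h3 =>
    factor_eq σ hσ (htσ y h1) (htσ z h2) (hty y) (hty z) (hbr y z h3)
  have e1 := teq c d (by decide) (by decide) (by decide)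
  have e2 := teq d e (by decide) (by decide) (by decide)
  have e3 := teq e f (by decide) (by decide) (by decide)
  have e4 := teq f g (by decide) (by decide) (by decide)
  have e5 := teq d h (by decide) (by decide) (by decide)
  have e6 := teq h i (by decide) (by decide) (by decide)
  have hta : t c = 1 := by
    have hm : t c ∈ Subgroup.center Γ := hσ (MonoidHom.mem_ker.2 (htσ c (by decide)))
    have hpow := conj_wp (f := L) (X := L a) hm (List.replicate 9 [c, d, e, f, g, h, i]).flatten
      (fun y hy => by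
        have : y ∈ [c, d, e, f, g, h, i] := by
          obtain ⟨l, hl, hyl⟩ := List.mem_flatten.1 hy
          rwa [(List.mem_replicate.1 hl).2] at hyl
        rw [hty]
        simp only [List.mem_cons, List.not_mem_nil, or_false] at this
        rcases this with rfl | rfl | rfl | rfl | rfl | rfl | rfl <;>
          simp only [e1, ← e2, ← e3, ← e4, ← e5, ← e6])
    have hone : σ (wp L (List.replicate 9 [c, d, e, f, g, h, i]).flatten) = 1 := by
      rw [map_wp]
      simp only [hσL]
      exact third_seven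
    rw [central_of_one σ hσ hone, mul_inv_cancel_right] at hpow
    have h63 : t c ^ 63 = 1 := by
      have := hpow.symm
      rw [mul_eq_left] at this
      simpa using this
    have h2 : t c * t c = 1 := by
      have hc2 : L a * L a * L c * (L a * L a)⁻¹ = L c * (t c * t c) := by
        calc L a * L a * L c * (L a * L a)⁻¹ = L a * (L a * L c * (L a)⁻¹) * (L a)⁻¹ := by group
          _ = L a * (L c * t c) * (L a)⁻¹ := by rw [hty c]
          _ = (L a * L c * (L a)⁻¹) * (L a * (t c) * (L a)⁻¹) := by group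
          _ = (L c * t c) * t c := by
              rw [hty c, Subgroup.mem_center_iff.1 hm (L a), mul_inv_cancel_right]
          _ = _ := by group
      have : L a * L a * L c * (L a * L a)⁻¹ = L c := by
        rw [hsq a, ← hkm (L c), mul_inv_cancel_right]
      rw [this] at hc2
      exact mul_eq_left.1 hc2.symm
    calc t c = t c * (t c * t c) ^ 31 := by rw [h2, one_pow, mul_one]
      _ = t c ^ 63 := by rw [← sq, ← pow_mul, ← pow_succ']
      _ = 1 := h63
  have comm_a : ∀ y, t y = 1 → L a * L y = L y * L a := fun y h => by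
    have := hty y
    rw [h, mul_one] at this
    exact mul_inv_eq_iff_eq_mul.1 this
  have step : ∀ x y z, L x * L y = L y * L x → coxLabel edges y z = 3 → coxLabel edges x z = 2 →
      L x * L z = L z * L x := fun x y z h1 h2 h3 =>
    comm_step σ hσ h1 (hbr y z h2) (by rw [hσL, hσL]; exact hσc x z h3)
  have ac := comm_a c hta
  have ad := step a c d ac (by decide) (by decide)
  have ae := step a d e ad (by decide) (by decide)
  have af := step a e f ae (by decide) (by decide)
  have ag := step a f g af (by decide) (by decide)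
  have ah := step a d h ad (by decide) (by decide)
  have ai := step a h i ah (by decide) (by decide)
  have db := step d a b ad.symm (by decide) (by decide)
  have be := step b d e db.symm (by decide) (by decide)
  have bf := step b e f be (by decide) (by decide)
  have bg := step b f g bf (by decide) (by decide)
  have bh := step b d h db.symm (by decide) (by decide)
  have bi := step b h i bh (by decide) (by decide)
  have ec := step e b c be.symm (by decide) (by decide)
  have cf := step c e f ec.symm (by decide) (by decide)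
  have cg := step c f g cf (by decide) (by decide)
  have hc' := step h b c bh.symm (by decide) (by decide)
  have ci := step c h i hc'.symm (by decide) (by decide)
  have gd := step g c d cg.symm (by decide) (by decide)
  have ge := step g d e gd (by decide) (by decide)
  have gh := step g d h gd (by decide) (by decide)
  have gi := step g h i gh (by decide) (by decide)
  have hf := step h g f gh.symm (by decide) (by decide)
  have he' := step h f e hf (by decide) (by decide)
  have df := step d g f gd.symm (by decide) (by decide)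
  have id' := step i c d ci.symm (by decide) (by decide)
  have ie := step i d e id' (by decide) (by decide)
  have if' := step i e f ie (by decide) (by decide)
  have hcomm : ∀ x y, coxLabel edges x y = 2 → L x * L y = L y * L x := by
    intro x y h
    cases x <;> cases y <;>
      first | exact absurd h (by decide) | assumption | (symm; assumption)
  have hpow := cox_pow hk hsq hbr hcomm
  -- normalise the squares
  set v := wp L seven₁ with hv
  have hσv : σ v = 1 := by
    rw [hv, map_wp]; simp only [hσL]; exact words₂₂.2.1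
  have hvc : v ∈ Subgroup.center Γ := hσ (MonoidHom.mem_ker.2 hσv)
  set q := (v * (k ^ 31)⁻¹)⁻¹ with hq
  have hqc : q ∈ Subgroup.center Γ := by
    rw [hq]; exact inv_mem (mul_mem hvc (inv_mem (pow_mem hk _)))
  have hσq : σ q = 1 := by rw [hq, map_inv, map_mul, map_inv, map_pow, hσv, hσk]; group
  have hq2 : k * (q * q) = 1 := by
    have h63 : v * v = k ^ 63 := (seven_sq hk hpow).1
    have hvk : Commute v (k ^ 31)⁻¹ := ((show Commute v k from hkm v).pow_right 31).inv_right
    have : v * (k ^ 31)⁻¹ * (v * (k ^ 31)⁻¹) = k := by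
      rw [hvk.symm.mul_mul_mul_comm, h63]; group
    rw [hq, ← mul_inv_rev, this, mul_inv_cancel]
  let M₁ : Node → Γ := fun x => L x * q
  have hqm := Subgroup.mem_center_iff.1 hqc
  have hM1sq : ∀ x, M₁ x * M₁ x = 1 := fun x => by
    calc L x * q * (L x * q) = L x * (q * L x) * q := by group
      _ = L x * (L x * q) * q := by rw [← hqm (L x)]
      _ = (L x * L x) * (q * q) := by group
      _ = 1 := by rw [hsq, hq2]
  set w := wp M₁ seven₁ with hw
  have hσw : σ w = 1 := by
    rw [hw, map_wp]
    simp only [M₁, map_mul, hσL, hσq, mul_one]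
    exact words₂₂.2.1
  have hwc : w ∈ Subgroup.center Γ := hσ (MonoidHom.mem_ker.2 hσw)
  have hwm := Subgroup.mem_center_iff.1 hwc
  have shift : ∀ {Z : Node → Γ} {c : Γ}, c ∈ Subgroup.center Γ →
      (∀ x y, coxLabel edges x y = 3 → Z x * Z y * Z x = Z y * Z x * Z y) →
      (∀ x y, coxLabel edges x y = 2 → Z x * Z y = Z y * Z x) →
      (∀ x y, coxLabel edges x y = 3 → Z x * c * (Z y * c) * (Z x * c) = Z y * c * (Z x * c) * (Z y * c)) ∧
      (∀ x y, coxLabel edges x y = 2 → Z x * c * (Z y * c) = Z y * c * (Z x * c)) := by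
    intro Z c hc h3 h2
    have e : ∀ l : List Node, wp (fun x => Z x * c) l = wp Z l * c ^ l.length := wp_mul_central hc
    refine ⟨fun x y h => ?_, fun x y h => ?_⟩
    · have h' := h3 x y h
      calc _ = wp (fun x => Z x * c) [x, y, x] := by simp [wp, mul_assoc]
        _ = Z x * Z y * Z x * c ^ 3 := by rw [e]; simp [wp, mul_assoc]
        _ = wp Z [y, x, y] * c ^ 3 := by rw [h']; simp [wp, mul_assoc]
        _ = wp (fun x => Z x * c) [y, x, y] := by rw [e]; rfl
        _ = _ := by simp [wp, mul_assoc]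
    · have h' := h2 x y h
      calc _ = wp (fun x => Z x * c) [x, y] := by simp [wp, mul_assoc]
        _ = Z x * Z y * c ^ 2 := by rw [e]; simp [wp, mul_assoc]
        _ = wp Z [y, x] * c ^ 2 := by rw [h']; simp [wp, mul_assoc]
        _ = wp (fun x => Z x * c) [y, x] := by rw [e]; rfl
        _ = _ := by simp [wp, mul_assoc]
  obtain ⟨hb1, hc1⟩ := shift hqc hbr hcomm
  have hw2 : w * w = 1 := by
    have := (seven_sq (Subgroup.one_mem _) (cox_pow (Subgroup.one_mem _) hM1sq hb1 hc1)).1
    rwa [one_pow] at this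
  obtain ⟨hb2, hc2⟩ := shift hwc hb1 hc1
  let M₂ : Node → Γ := fun x => M₁ x * w
  have hσM : ∀ x, σ (M₂ x) = gen₂₂ x := fun x => by
    simp only [M₂, M₁, map_mul, hσL, hσq, hσw, mul_one]
  have hM2sq : ∀ x, M₂ x * M₂ x = 1 := fun x => by
    calc M₁ x * w * (M₁ x * w) = M₁ x * (w * M₁ x) * w := by group
      _ = M₁ x * (M₁ x * w) * w := by rw [← hwm (M₁ x)]
      _ = (M₁ x * M₁ x) * (w * w) := by group
      _ = 1 := by rw [hM1sq, hw2, one_mul]
  have hcox2 := cox_pow (Subgroup.one_mem _) hM2sq hb2 hc2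
  simp only [one_pow] at hcox2
  have hcent : ∀ l, wp gen₂₂ l = 1 → ∀ x, wp M₂ l * M₂ x = M₂ x * wp M₂ l := by
    intro l hl x
    refine (central_of_one σ hσ ?_ (M₂ x)).symm
    rw [map_wp]; simp only [hσM]; exact hl
  refine ⟨M₂, hσM, hcox2, ?_, hcent _ words₂₂.1, hcent _ words₂₂.2.2⟩
  rw [show wp M₂ seven₁ = w * w ^ seven₁.length from wp_mul_central hwc seven₁,
    show seven₁.length = 63 from rfl, show (63 : ℕ) = 2 * 31 + 1 from rfl, pow_succ, pow_mul, sq,
    hw2, one_pow, one_mul, hw2]

end Cfsg.Agent.Lib.Fi22Mult
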