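import Mathlib
import Cfsg.Prelude.Def_SporCoxeter
import Cfsg.Agent.Lib.WeylSmall.Basic

/-!
Words in generators with Coxeter relations up to central factors.
-/

set_option autoImplicit false

namespace Cfsg.Agent.Lib.Fi22Mult

open Cfsg.Agent.Lib.Coxeter Cfsg.Agent.Lib.Coxeter.WeylOrder

variable {α : Type*} {Γ : Type*} [Group Γ]

/-- The value of a positive word. -/
def wp (f : α → Γ) (l : List α) : Γ := (l.map f).prod

/-- A positive word as a free group element. -/
def word (l : List α) : FreeGroup α := (l.map FreeGroup.of).prod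

theorem wp_nil (f : α → Γ) : wp f [] = 1 := rfl

theorem wp_cons (f : α → Γ) (x : α) (l : List α) : wp f (x :: l) = f x * wp f l := by simp [wp]

theorem wp_append (f : α → Γ) (l l' : List α) : wp f (l ++ l') = wp f l * wp f l' := by simp [wp]

theorem map_wp {Δ : Type*} [Group Δ] (σ : Γ →* Δ) (f : α → Γ) (l : List α) :
    σ (wp f l) = wp (fun x => σ (f x)) l := by
  induction l with
  | nil => simp [wp]
  | cons x l ih => rw [wp_cons, wp_cons, map_mul, ih]

theorem lift_word (f : α → Γ) (l : List α) : FreeGroup.lift f (word l) = wp f l := by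
  induction l with
  | nil => simp [word, wp]
  | cons x l ih =>
    rw [wp_cons, show word (x :: l) = FreeGroup.of x * word l by simp [word], map_mul,
      FreeGroup.lift_apply_of, ih]

theorem wp_map {β : Type*} (f : α → Γ) (e : β → α) (l : List β) :
    wp f (l.map e) = wp (fun x => f (e x)) l := by
  simp [wp, List.map_map, Function.comp_def]

theorem wp_replicate (f : α → Γ) (l : List α) : ∀ n,
    wp f (List.replicate n l).flatten = wp f l ^ n
  | 0 => by simp [wp]
  | n + 1 => by rw [List.replicate_succ, List.flatten_cons, wp_append, wp_replicate f l n, pow_succ']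

/-- Reversed words of involutions are inverses. -/
theorem wp_reverse {f : α → Γ} (h : ∀ x, f x * f x = 1) :
    ∀ l : List α, wp f l.reverse = (wp f l)⁻¹
  | [] => by simp [wp]
  | x :: l => by
    rw [List.reverse_cons, wp_append, wp_reverse h l, wp_cons, wp_cons, wp_nil, mul_inv_rev,
      mul_one, inv_eq_of_mul_eq_one_right (h x)]

/-- Words in factors differing by central elements. -/
theorem wp_mul_central {f : α → Γ} {c : Γ} (hc : c ∈ Subgroup.center Γ) :
    ∀ l : List α, wp (fun x => f x * c) l = wp f l * c ^ l.length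
  | [] => by simp [wp]
  | x :: l => by
    have hcm : ∀ g, g * c = c * g := Subgroup.mem_center_iff.1 hc
    rw [wp_cons, wp_cons, wp_mul_central hc l, List.length_cons, pow_succ']
    calc f x * c * (wp f l * c ^ l.length) = f x * (c * wp f l) * c ^ l.length := by group
      _ = f x * (wp f l * c) * c ^ l.length := by rw [hcm]
      _ = _ := by group

/-- Conjugation multiplying each letter by a central element. -/
theorem conj_wp {f : α → Γ} {X a : Γ} (ha : a ∈ Subgroup.center Γ) :
    ∀ l : List α, (∀ y ∈ l, X * f y * X⁻¹ = f y * a) → X * wp f l * X⁻¹ = wp f l * a ^ l.length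
  | [], _ => by simp [wp]
  | y :: l, h => by
    have hcm : ∀ g, g * a = a * g := Subgroup.mem_center_iff.1 ha
    rw [wp_cons, List.length_cons, pow_succ']
    calc X * (f y * wp f l) * X⁻¹ = (X * f y * X⁻¹) * (X * wp f l * X⁻¹) := by group
      _ = f y * (a * wp f l) * a ^ l.length := by
          rw [h y List.mem_cons_self, conj_wp ha l fun z hz => h z (List.mem_cons_of_mem _ hz)]
          group
      _ = f y * (wp f l * a) * a ^ l.length := by rw [hcm]
      _ = _ := by group

/-- A word which is trivial in the Coxeter group has the value given by its length. -/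
theorem pow_of_coxeter {n : ℕ} {M : CoxeterMatrix (Fin n)} (k : Γ) (hk : k ∈ Subgroup.center Γ)
    (X : Fin n → Γ) (hX : ∀ i j, (X i * X j) ^ M i j = k ^ M i j)
    (l : List ℕ) (hl : ∀ j ∈ l, j < n) (hone : genProd M l = 1) (m : ℕ) (hm : l.length = 2 * m) :
    wp (fun j => if h : j < n then X ⟨j, h⟩ else 1) l = k ^ m := by
  have hcen : ∀ g : Γ × Multiplicative ℤ, g * (k, Multiplicative.ofAdd (-2 : ℤ)) =
      (k, Multiplicative.ofAdd (-2 : ℤ)) * g := fun g =>
    Prod.ext (Subgroup.mem_center_iff.1 hk g.1) (mul_comm _ _)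
  let N : Subgroup (Γ × Multiplicative ℤ) := Subgroup.zpowers (k, Multiplicative.ofAdd (-2 : ℤ))
  haveI hN : N.Normal := ⟨fun x hx g => by
    obtain ⟨z, rfl⟩ := Subgroup.mem_zpowers_iff.1 hx
    rw [(Commute.zpow_right (hcen g) z).eq, mul_inv_cancel_right]
    exact Subgroup.mem_zpowers_iff.2 ⟨z, rfl⟩⟩
  let Y : Fin n → (Γ × Multiplicative ℤ) ⧸ N :=
    fun i => QuotientGroup.mk (X i, Multiplicative.ofAdd (-1 : ℤ))
  have hY : CoxeterMatrix.IsLiftable M Y := by
    intro i j
    have e : ((X i, Multiplicative.ofAdd (-1 : ℤ)) * (X j, Multiplicative.ofAdd (-1 : ℤ))) ^ M i j =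
        (k, Multiplicative.ofAdd (-2 : ℤ)) ^ M i j :=
      Prod.ext (by simp [hX i j]) (by rw [Prod.pow_snd, Prod.pow_snd, Prod.snd_mul, ← ofAdd_add]; rfl)
    show (QuotientGroup.mk _ * QuotientGroup.mk _) ^ M i j = 1
    rw [← QuotientGroup.mk_mul, ← QuotientGroup.mk_pow, e, QuotientGroup.eq_one_iff]
    exact Subgroup.npow_mem_zpowers _ _
  let φ := M.toCoxeterSystem.lift ⟨Y, hY⟩
  have hφ : ∀ j (h : j < n), φ (gen M j) = Y ⟨j, h⟩ := fun j h => by
    rw [gen, dif_pos h]
    exact M.toCoxeterSystem.lift_apply_simple hY _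
  have hval : ∀ l : List ℕ, (∀ j ∈ l, j < n) → φ (genProd M l) = QuotientGroup.mk
      (wp (fun j => if h : j < n then X ⟨j, h⟩ else 1) l,
        Multiplicative.ofAdd (-(l.length : ℤ))) := by
    intro l
    induction l with
    | nil => intro _; simp [genProd, wp]; rfl
    | cons j l ih =>
      intro hl
      have hj := hl j List.mem_cons_self
      rw [show genProd M (j :: l) = gen M j * genProd M l by simp [genProd], map_mul, hφ j hj,
        ih fun x hx => hl x (List.mem_cons_of_mem _ hx), ← QuotientGroup.mk_mul]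
      congr 1
      refine Prod.ext ?_ ?_
      · simp [wp, dif_pos hj]
      · change Multiplicative.ofAdd (-1 : ℤ) * Multiplicative.ofAdd (-(l.length : ℤ)) =
          Multiplicative.ofAdd (-((j :: l).length : ℤ))
        rw [← ofAdd_add]
        congr 1
        simp
  have h := hval l hl
  rw [hone, map_one, eq_comm, QuotientGroup.eq_one_iff, Subgroup.mem_zpowers_iff] at h
  obtain ⟨z, hz⟩ := h
  have h2 := congrArg (fun p : Γ × Multiplicative ℤ => Multiplicative.toAdd p.2) hz
  simp only [Prod.pow_snd, toAdd_zpow, toAdd_ofAdd, smul_eq_mul, hm] at h2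
  obtain rfl : z = (m : ℤ) := by push_cast at h2; omega
  have h1 := congrArg Prod.fst hz
  simp only [Prod.pow_fst, zpow_natCast] at h1
  exact h1.symm

end Cfsg.Agent.Lib.Fi22Mult
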