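import Cfsg.Prelude.Def_Spor_Fi22
import Cfsg.Agent.Lib.Fi22Mult.Words

/-!
The universal cover of Fi22 as a presented group: the graph Y332, the first word of type E7 trivial,
the tenth power of the spider word and the second word of type E7 central.
-/

set_option autoImplicit false
set_option maxRecDepth 20000

namespace Cfsg.Agent.Lib.Fi22Mult

open Cfsg.Spor
open Cfsg.Spor.Fi22 (edges)
open Cfsg.Spor.Fi22.Gen

/-- Nine generators. -/
abbrev Node : Type := Cfsg.Spor.Fi22.Gen

instance : Fintype Node := ⟨{a, b, c, d, e, f, g, h, i}, fun x => by cases x <;> decide⟩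

/-- The spider. -/
def spider : List Node := (List.replicate 10 [d, c, b, d, e, f, d, h, i]).flatten

/-- The first word of type E7. -/
def seven₁ : List Node := (List.replicate 9 [a, b, c, d, e, f, h]).flatten

/-- The second word of type E7. -/
def seven₂ : List Node := (List.replicate 9 [b, c, d, e, f, g, h]).flatten

/-- All nodes. -/
def allNodes : List Node := [a, b, c, d, e, f, g, h, i]

theorem mem_allNodes (x : Node) : x ∈ allNodes := by cases x <;> decide

/-- The relators beyond the graph. -/
def coverExtra : List (FreeGroup Node) :=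
  word seven₁ :: ((allNodes.map fun x => word (spider ++ [x] ++ spider.reverse ++ [x])) ++
    allNodes.map fun x => word (seven₂ ++ [x] ++ seven₂.reverse ++ [x]))

/-- The cover. -/
abbrev Cover : Type := CoxPresented Node edges coverExtra

/-- The generators of the cover. -/
def gen (x : Node) : Cover := PresentedGroup.of x

/-- What makes generators into an image of the cover. -/
structure Covers {Γ : Type*} [Group Γ] (F : Node → Γ) : Prop where
  cox : ∀ x y, (F x * F y) ^ coxLabel edges x y = 1
  seven : wp F seven₁ = 1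
  spider_comm : ∀ x, wp F spider * F x = F x * wp F spider
  seven_comm : ∀ x, wp F seven₂ * F x = F x * wp F seven₂

namespace Covers

variable {Γ : Type*} [Group Γ] {F : Node → Γ}

theorem invol (hF : Covers F) (x : Node) : F x * F x = 1 := by
  have := hF.cox x x
  rwa [coxLabel, if_pos rfl, pow_one] at this

theorem rels (hF : Covers F) :
    ∀ r ∈ coxRelators edges ∪ {r | r ∈ coverExtra}, FreeGroup.lift F r = 1 := by
  rintro r (⟨x, -, y, -, rfl⟩ | hr)
  · rw [map_pow, map_mul, FreeGroup.lift_apply_of, FreeGroup.lift_apply_of, hF.cox]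
  · have key : ∀ (L : List Node) (x : Node), wp F L * F x = F x * wp F L →
        FreeGroup.lift F (word (L ++ [x] ++ L.reverse ++ [x])) = 1 := by
      intro L x h
      rw [lift_word, wp_append, wp_append, wp_append, wp_reverse hF.invol, wp_cons, wp_nil, mul_one,
        h, mul_inv_cancel_right, hF.invol]
    simp only [coverExtra, List.mem_cons, List.mem_append, List.mem_map, Set.mem_setOf_eq] at hr
    rcases hr with rfl | ⟨x, -, rfl⟩ | ⟨x, -, rfl⟩
    · rw [lift_word, hF.seven]
    · exact key _ _ (hF.spider_comm x)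
    · exact key _ _ (hF.seven_comm x)

/-- The map from the cover. -/
def hom (hF : Covers F) : Cover →* Γ := PresentedGroup.toGroup hF.rels

@[simp] theorem hom_gen (hF : Covers F) (x : Node) : hF.hom (gen x) = F x :=
  PresentedGroup.toGroup.of hF.rels

theorem hom_wp (hF : Covers F) (l : List Node) : hF.hom (wp gen l) = wp F l := by
  rw [map_wp]; simp

end Covers

theorem mk_word (l : List Node) :
    PresentedGroup.mk (coxRelators edges ∪ {r | r ∈ coverExtra}) (word l) = wp gen l := by
  induction l with
  | nil => simp [word, wp]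
  | cons x l ih =>
    rw [wp_cons, show word (x :: l) = FreeGroup.of x * word l by simp [word], map_mul, ih]
    rfl

theorem covers_gen : Covers gen := by
  have hnode : ∀ x : Node, x ∈ coxNodes edges := fun x => by cases x <;> decide
  have hcox : ∀ x y, (gen x * gen y) ^ coxLabel edges x y = 1 := fun x y => by
    have := PresentedGroup.one_of_mem (rels := coxRelators edges ∪ {r | r ∈ coverExtra})
      (Or.inl ⟨x, hnode x, y, hnode y, rfl⟩)
    rw [map_pow, map_mul] at this
    exact this
  have hinv : ∀ x, gen x * gen x = 1 := fun x => by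
    have := hcox x x
    rwa [coxLabel, if_pos rfl, pow_one] at this
  have key : ∀ (L : List Node) (x : Node), word (L ++ [x] ++ L.reverse ++ [x]) ∈ coverExtra →
      wp gen L * gen x = gen x * wp gen L := by
    intro L x h
    have h1 := PresentedGroup.one_of_mem (rels := coxRelators edges ∪ {r | r ∈ coverExtra}) (Or.inr h)
    rw [mk_word, wp_append, wp_append, wp_append, wp_reverse hinv, wp_cons, wp_nil, mul_one] at h1
    rw [mul_eq_one_iff_eq_inv, mul_inv_eq_iff_eq_mul, inv_eq_of_mul_eq_one_right (hinv x)] at h1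
    exact h1
  refine ⟨hcox, ?_, fun x => key _ x ?_, fun x => key _ x ?_⟩
  · rw [← mk_word]
    exact PresentedGroup.one_of_mem (Or.inr List.mem_cons_self)
  · exact List.mem_cons_of_mem _ (List.mem_append_left _ (List.mem_map.2 ⟨x, mem_allNodes x, rfl⟩))
  · exact List.mem_cons_of_mem _ (List.mem_append_right _ (List.mem_map.2 ⟨x, mem_allNodes x, rfl⟩))

theorem closure_gen : Subgroup.closure (Set.range gen) = ⊤ :=
  PresentedGroup.closure_range_of _

theorem spider_central : wp gen spider ∈ Subgroup.center Cover := by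
  rw [Subgroup.mem_center_iff]
  intro g
  have hg : g ∈ Subgroup.closure (Set.range gen) := by rw [closure_gen]; trivial
  have hle : Subgroup.closure (Set.range gen) ≤ Subgroup.centralizer {wp gen spider} := by
    rw [Subgroup.closure_le]
    rintro _ ⟨x, rfl⟩
    exact Subgroup.mem_centralizer_singleton_iff.2 (covers_gen.spider_comm x).symm
  exact Subgroup.mem_centralizer_singleton_iff.1 (hle hg)

theorem seven_central : wp gen seven₂ ∈ Subgroup.center Cover := by
  rw [Subgroup.mem_center_iff]
  intro g
  have hg : g ∈ Subgroup.closure (Set.range gen) := by rw [closure_gen]; trivial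
  have hle : Subgroup.closure (Set.range gen) ≤ Subgroup.centralizer {wp gen seven₂} := by
    rw [Subgroup.closure_le]
    rintro _ ⟨x, rfl⟩
    exact Subgroup.mem_centralizer_singleton_iff.2 (covers_gen.seven_comm x).symm
  exact Subgroup.mem_centralizer_singleton_iff.1 (hle hg)

/-- The generators of Fi22. -/
def gen₂₂ (x : Node) : Cfsg.Spor.Fi22 := PresentedGroup.of x

theorem mk22_word (l : List Node) :
    PresentedGroup.mk (coxRelators edges ∪ {r | r ∈ Cfsg.Spor.Fi22.extra}) (word l) = wp gen₂₂ l := by
  induction l with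
  | nil => simp [word, wp]
  | cons x l ih =>
    rw [wp_cons, show word (x :: l) = FreeGroup.of x * word l by simp [word], map_mul, ih]
    rfl

theorem extra_eq : Cfsg.Spor.Fi22.extra = [word spider, word seven₁, word seven₂] := by
  decide +kernel

theorem words₂₂ : wp gen₂₂ spider = 1 ∧ wp gen₂₂ seven₁ = 1 ∧ wp gen₂₂ seven₂ = 1 := by
  refine ⟨?_, ?_, ?_⟩ <;> rw [← mk22_word] <;> refine PresentedGroup.one_of_mem (Or.inr ?_) <;>
    simp [extra_eq]

theorem covers₂₂ : Covers gen₂₂ := by
  have hnode : ∀ x : Node, x ∈ coxNodes edges := fun x => by cases x <;> decide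
  refine ⟨fun x y => ?_, words₂₂.2.1, fun x => by rw [words₂₂.1, one_mul, mul_one],
    fun x => by rw [words₂₂.2.2, one_mul, mul_one]⟩
  have := PresentedGroup.one_of_mem (rels := coxRelators edges ∪ {r | r ∈ Cfsg.Spor.Fi22.extra})
    (Or.inl ⟨x, hnode x, y, hnode y, rfl⟩)
  rw [map_pow, map_mul] at this
  exact this

/-- The projection onto Fi22. -/
def proj : Cover →* Cfsg.Spor.Fi22 := covers₂₂.hom

theorem proj_surjective : Function.Surjective proj := by
  rw [← MonoidHom.range_eq_top, eq_top_iff,
    ← PresentedGroup.closure_range_of (coxRelators edges ∪ {r | r ∈ Cfsg.Spor.Fi22.extra}),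
    Subgroup.closure_le]
  rintro _ ⟨x, rfl⟩
  exact ⟨gen x, covers₂₂.hom_gen x⟩

/-- A map from Fi22 undoing a map onto it. -/
theorem ker_le_of_words {Γ : Type*} [Group Γ] (F : Node → Γ) (K : Subgroup Γ) [K.Normal]
    (hcox : ∀ x y, (F x * F y) ^ coxLabel edges x y ∈ K)
    (h₀ : wp F spider ∈ K) (h₁ : wp F seven₁ ∈ K) (h₂ : wp F seven₂ ∈ K)
    (σ : Γ →* Cfsg.Spor.Fi22) (hσ : ∀ x, σ (F x) = gen₂₂ x) :
    ∀ y ∈ Subgroup.closure (Set.range F), σ y = 1 → y ∈ K := by
  have hw : ∀ l, wp F l ∈ K → wp (fun x => QuotientGroup.mk' K (F x)) l = 1 := fun l hl => by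
    rw [← map_wp]; exact (QuotientGroup.eq_one_iff _).2 hl
  have hr : ∀ r ∈ coxRelators edges ∪ {r | r ∈ Cfsg.Spor.Fi22.extra},
      FreeGroup.lift (fun x => QuotientGroup.mk' K (F x)) r = 1 := by
    rintro r (⟨x, -, y, -, rfl⟩ | hr)
    · rw [map_pow, map_mul, FreeGroup.lift_apply_of, FreeGroup.lift_apply_of, ← map_mul, ← map_pow]
      exact (QuotientGroup.eq_one_iff _).2 (hcox x y)
    · rw [Set.mem_setOf_eq, extra_eq] at hr
      simp only [List.mem_cons, List.not_mem_nil, or_false] at hr
      rcases hr with rfl | rfl | rfl <;> rw [lift_word]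
      exacts [hw _ h₀, hw _ h₁, hw _ h₂]
  let θ : Cfsg.Spor.Fi22 →* Γ ⧸ K := PresentedGroup.toGroup hr
  have hθ : ∀ y ∈ Subgroup.closure (Set.range F), θ (σ y) = QuotientGroup.mk' K y := by
    intro y hy
    induction hy using Subgroup.closure_induction with
    | mem z hz =>
      obtain ⟨x, rfl⟩ := hz
      rw [hσ]
      exact PresentedGroup.toGroup.of hr
    | one => simp
    | mul p q _ _ hp hq => rw [map_mul, map_mul, map_mul, hp, hq]
    | inv p _ hp => rw [map_inv, map_inv, map_inv, hp]
  intro y hy h1
  have := hθ y hy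
  rw [h1, map_one] at this
  exact (QuotientGroup.eq_one_iff _).1 this.symm

end Cfsg.Agent.Lib.Fi22Mult
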