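import Mathlib
import Cfsg.Agent.Lib.Fi22Mult.Pres
import Cfsg.Agent.Lib.Fi22Mult.RepData

/-!
A representation of the cover of degree 54 over the two-element field in which the tenth power of
the spider word is not trivial.
-/

set_option autoImplicit false
set_option maxRecDepth 20000

namespace Cfsg.Agent.Lib.Fi22Mult

namespace Rep

open Cfsg.Spor
open Cfsg.Spor.Fi22 (edges)
open Cfsg.Spor.Fi22.Gen

/-- A vector times the matrix with the given rows. -/
def app : List ℕ → ℕ → ℕ
  | [], _ => 0
  | n :: ns, v => (bif Nat.beq (v % 2) 1 then n else 0) ^^^ app ns (v / 2)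

/-- Product of matrices given by rows. -/
def mul (M N : List ℕ) : List ℕ := M.map (app N)

/-- Rows of the identity. -/
def idRows : List ℕ := (List.range 54).map fun r => 2 ^ r

/-- The rows of the nine generators. -/
def rows : Node → List ℕ
  | .a => rowsA | .b => rowsB | .c => rowsC | .d => rowsD | .e => rowsE
  | .f => rowsF | .g => rowsG | .h => rowsH | .i => rowsI

/-- Rows of a word. -/
def rowsWord : List Node → List ℕ
  | [] => idRows
  | x :: l => mul (rows x) (rowsWord l)

/-- A bit as an element of the field. -/
def bit (v c : ℕ) : ZMod 2 := if v.testBit c then 1 else 0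

theorem bit_zero (c : ℕ) : bit 0 c = 0 := by simp [bit]

theorem bit_xor (v w c : ℕ) : bit (v ^^^ w) c = bit v c + bit w c := by
  rw [bit, bit, bit, Nat.testBit_xor]
  cases v.testBit c <;> cases w.testBit c <;> decide

theorem bit_app : ∀ (N : List ℕ) (v c : ℕ),
    bit (app N v) c = ∑ r : Fin N.length, bit v r.1 * bit (N.get r) c := by
  intro N
  induction N with
  | nil => intro v c; simp [app, bit]
  | cons n ns ih =>
    intro v c
    rw [app, bit_xor, ih]
    have hs : ∀ r : ℕ, bit (v / 2) r = bit v (r + 1) := fun r => by
      simp only [bit, Nat.testBit_add_one]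
    have h0 : bit (bif Nat.beq (v % 2) 1 then n else 0) c = bit v 0 * bit n c := by
      rcases Nat.mod_two_eq_zero_or_one v with h | h <;>
        simp [bit, Nat.testBit_zero, h, Nat.beq]
    simp only [hs, h0, List.length_cons]
    rw [Fin.sum_univ_succ]
    rfl

/-- The matrix with the given rows. -/
def toMat (M : List ℕ) : Matrix (Fin 54) (Fin 54) (ZMod 2) :=
  Matrix.of fun r c => bit (M.getD r.1 0) c.1

theorem app_zero : ∀ N : List ℕ, app N 0 = 0
  | [] => rfl
  | n :: ns => by simp [app, app_zero ns, Nat.beq]

theorem toMat_mul (M N : List ℕ) (hN : N.length = 54) : toMat (mul M N) = toMat M * toMat N := by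
  ext r c
  have hget : (mul M N).getD r.1 0 = app N (M.getD r.1 0) := by
    conv_lhs => rw [mul, ← app_zero N, List.getD_map]
  rw [Matrix.mul_apply, toMat, Matrix.of_apply, hget, bit_app]
  rw [← Equiv.sum_comp (finCongr hN.symm)]
  refine Finset.sum_congr rfl fun k _ => ?_
  have hk : k.1 < N.length := by rw [hN]; exact k.2
  simp only [toMat, Matrix.of_apply, List.getD_eq_getElem _ _ hk, finCongr_apply, Fin.coe_cast,
    List.get_eq_getElem]

theorem toMat_id : toMat idRows = 1 := by
  have h : ∀ r c : Fin 54, (idRows.getD r.1 0).testBit c.1 = decide (r = c) := by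
    intro r c
    rw [List.getD_eq_getElem _ _ (by simp [idRows])]
    simp [idRows, Nat.testBit_two_pow, Fin.ext_iff]
  ext r c
  rw [toMat, Matrix.of_apply, bit, h, Matrix.one_apply]
  by_cases e : r = c <;> simp [e]

theorem length_rows : ∀ x : Node, (rows x).length = 54 := by decide +kernel

theorem length_rowsWord : ∀ l : List Node, (rowsWord l).length = 54
  | [] => by simp [rowsWord, idRows]
  | x :: l => by simp [rowsWord, mul, length_rows x]

theorem rows_sq : ∀ x : Node, rowsWord [x, x] = idRows := by decide +kernel

theorem cox_ok : ∀ x y : Node,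
    rowsWord ((List.replicate (coxLabel edges x y) [x, y]).flatten) = idRows := by
  decide +kernel

theorem seven₁_ok : rowsWord seven₁ = idRows := by decide +kernel

theorem seven₂_ok : rowsWord seven₂ = idRows := by decide +kernel

theorem spider_ok : ∀ x : Node, rowsWord (spider ++ [x]) = mul (rows x) (rowsWord spider) := by
  decide +kernel

theorem spider_ne : bit ((rowsWord spider).getD 0 0) 27 = 1 := by decide +kernel

/-- The matrix of a node as a unit. -/
def F (x : Node) : (Matrix (Fin 54) (Fin 54) (ZMod 2))ˣ :=
  ⟨toMat (rows x), toMat (rows x) * toMat idRows, by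
      rw [← toMat_mul _ _ (by simp [idRows]), ← toMat_mul _ _ (by simp [mul, length_rows])]
      exact (congrArg toMat (rows_sq x)).trans toMat_id,
    by
      rw [toMat_id, mul_one]
      have h := (congrArg toMat (rows_sq x)).trans toMat_id
      rwa [rowsWord, rowsWord, rowsWord, toMat_mul _ _ (by simp [mul, length_rows]),
        toMat_mul _ _ (by simp [idRows]), toMat_id, mul_one] at h⟩

theorem val_wp : ∀ l : List Node, (wp F l).val = toMat (rowsWord l)
  | [] => by simp [wp, rowsWord, toMat_id]
  | x :: l => by
    rw [wp_cons, Units.val_mul, val_wp l, rowsWord, toMat_mul _ _ (length_rowsWord l)]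
    rfl

theorem wp_of_rows {l : List Node} (h : rowsWord l = idRows) : wp F l = 1 :=
  Units.ext (by rw [val_wp, h, toMat_id, Units.val_one])

theorem covers : Covers F where
  cox x y := by
    have h := wp_of_rows (cox_ok x y)
    rwa [wp_replicate, wp_cons, wp_cons, wp_nil, mul_one] at h
  seven := wp_of_rows seven₁_ok
  spider_comm x := Units.ext (by
    have h := val_wp (spider ++ [x])
    rw [wp_append, wp_cons, wp_nil, mul_one, spider_ok,
      toMat_mul _ _ (length_rowsWord _), ← val_wp] at h
    exact h)
  seven_comm x := by rw [wp_of_rows seven₂_ok, one_mul, mul_one]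

theorem spider_ne_one : wp F spider ≠ 1 := by
  intro h
  have h' := congrArg (fun u : (Matrix (Fin 54) (Fin 54) (ZMod 2))ˣ => u.val 0 27) h
  simp only [val_wp, Units.val_one] at h'
  rw [toMat, Matrix.of_apply, Matrix.one_apply_ne (by decide)] at h'
  exact one_ne_zero (spider_ne.symm.trans h')

end Rep

/-- The tenth power of the spider word is not trivial in the cover. -/
theorem spider_ne_one : wp gen spider ≠ 1 := fun h =>
  Rep.spider_ne_one (by rw [← Rep.covers.hom_wp, h, map_one])

end Cfsg.Agent.Lib.Fi22Mult
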