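import Cfsg.Prelude.Def_KGroupFacts
import Cfsg.Agent.Lib.Fi22Mult.Lift
import Cfsg.Agent.Lib.Fi22Mult.Rep
import Cfsg.Agent.Lib.Fi22Mult.Two

/-!
The multiplier of Fi22 is cyclic of order six.
-/

set_option autoImplicit false
set_option maxRecDepth 20000
set_option linter.constructorNameAsVariable false

namespace Cfsg.Agent.Lib.Fi22Mult

open Cfsg.Spor
open Cfsg.Spor.Fi22 (edges)
open Cfsg.Spor.Fi22.Gen

/-- The product of the two central elements. -/
def centralSix : Cover := wp gen spider * wp gen seven₂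

theorem seven_sq_gen : wp gen seven₂ ^ 2 = 1 := by
  have hF : ∀ x y, (gen x * gen y) ^ coxLabel edges x y = (1 : Cover) ^ coxLabel edges x y := by
    intro x y; rw [one_pow]; exact covers_gen.cox x y
  rw [sq, (seven_sq (Subgroup.one_mem _) hF).2, one_pow]

theorem centralSix_center : centralSix ∈ Subgroup.center Cover :=
  mul_mem spider_central seven_central

theorem centralSix_pow : centralSix ^ 3 = wp gen seven₂ ∧ centralSix ^ 4 = wp gen spider := by
  have hc : Commute (wp gen spider) (wp gen seven₂) := Subgroup.mem_center_iff.1 seven_central _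
  constructor
  · rw [centralSix, hc.mul_pow, spider_cube, one_mul, pow_succ, seven_sq_gen, one_mul]
  · rw [centralSix, hc.mul_pow, pow_succ, spider_cube, one_mul,
      show 4 = 2 * 2 from rfl, pow_mul (wp gen seven₂), seven_sq_gen, one_pow, mul_one]

theorem orderOf_centralSix : orderOf centralSix = 6 := by
  have h6 : centralSix ^ 6 = 1 := by
    rw [show 6 = 3 * 2 from rfl, pow_mul, centralSix_pow.1, seven_sq_gen]
  rw [orderOf_eq_iff (by omega)]
  refine ⟨h6, fun m hm hpos h => ?_⟩
  have h2 : centralSix ^ Nat.gcd m 6 = 1 := pow_gcd_eq_one.2 ⟨h, h6⟩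
  have hg : Nat.gcd m 6 = 1 ∨ Nat.gcd m 6 = 2 ∨ Nat.gcd m 6 = 3 := by
    interval_cases m <;> simp
  rcases hg with hg | hg | hg <;> rw [hg] at h2
  · exact seven_ne_one (by rw [← centralSix_pow.1, ← pow_one centralSix, h2]; simp)
  · exact spider_ne_one (by rw [← centralSix_pow.2, show 4 = 2 * 2 from rfl, pow_mul, h2, one_pow])
  · exact seven_ne_one (by rw [← centralSix_pow.1, h2])

theorem proj_centralSix : proj centralSix = 1 := by
  rw [centralSix, map_mul, proj, covers₂₂.hom_wp, covers₂₂.hom_wp, words₂₂.1, words₂₂.2.2, one_mul]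

theorem ker_proj : proj.ker = Subgroup.zpowers centralSix := by
  refine le_antisymm (fun y hy => ?_) (Subgroup.zpowers_le.2 (MonoidHom.mem_ker.2 proj_centralSix))
  haveI : (Subgroup.zpowers centralSix).Normal := ⟨fun x hx g => by
    have hx' : x ∈ Subgroup.center Cover := Subgroup.zpowers_le.2 centralSix_center hx
    rwa [Subgroup.mem_center_iff.1 hx' g, mul_inv_cancel_right]⟩
  refine ker_le_of_words gen (Subgroup.zpowers centralSix) (fun x y => ?_) ?_ ?_ ?_ proj
    (fun x => covers₂₂.hom_gen x) y (by rw [closure_gen]; trivial) hy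
  · rw [covers_gen.cox]; exact one_mem _
  · rw [← centralSix_pow.2]; exact Subgroup.npow_mem_zpowers _ _
  · rw [covers_gen.seven]; exact one_mem _
  · rw [← centralSix_pow.1]; exact Subgroup.npow_mem_zpowers _ _

theorem card_ker_proj : Nat.card proj.ker = 6 := by
  rw [ker_proj, Nat.card_zpowers, orderOf_centralSix]

theorem finite_cover : Finite Cover := by
  haveI : Finite Cfsg.Spor.Fi22 := Nat.finite_of_card_ne_zero (by rw [Cfsg.Agent.S1696.result.2]; omega)
  haveI : Finite proj.ker := Nat.finite_of_card_ne_zero (by rw [card_ker_proj]; omega)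
  haveI : Finite proj.range := Finite.of_injective _ Subtype.val_injective
  exact (MonoidHom.finite_iff_finite_ker_range proj).2 ⟨inferInstance, inferInstance⟩

theorem commutator_cover : commutator Cover = ⊤ := by
  rw [eq_top_iff, ← closure_gen, Subgroup.closure_le]
  rintro _ ⟨x, rfl⟩
  have hinv : ∀ y, Abelianization.of (gen y) * Abelianization.of (gen y) = 1 := fun y => by
    rw [← map_mul, covers_gen.invol, map_one]
  have hadj : ∀ y z, coxLabel edges y z = 3 → Abelianization.of (gen y) = Abelianization.of (gen z) := by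
    intro y z h
    have h3 := congrArg Abelianization.of (covers_gen.cox y z)
    rw [h, map_pow, map_mul, map_one, mul_pow] at h3
    rw [pow_succ, sq, hinv, one_mul, pow_succ, sq, hinv, one_mul] at h3
    rw [eq_inv_of_mul_eq_one_left h3, inv_eq_of_mul_eq_one_right (hinv z)]
  have hall : ∀ y, Abelianization.of (gen y) = Abelianization.of (gen d) := by
    have hc := hadj c d (by decide)
    have hb := (hadj b c (by decide)).trans hc
    have he := hadj e d (by decide)
    have hf := (hadj f e (by decide)).trans he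
    have hh := hadj h d (by decide)
    intro y
    cases y
    · exact (hadj a b (by decide)).trans hb
    · exact hb
    · exact hc
    · rfl
    · exact he
    · exact hf
    · exact (hadj g f (by decide)).trans hf
    · exact hh
    · exact (hadj i h (by decide)).trans hh
  have hd : Abelianization.of (gen d) = 1 := by
    have h7 := congrArg Abelianization.of covers_gen.seven
    rw [map_one, map_wp, funext hall] at h7
    have e : wp (fun _ : Node => Abelianization.of (gen d)) seven₁ =
        Abelianization.of (gen d) ^ 63 := by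
      unfold wp
      rw [List.map_const', List.prod_replicate, show seven₁.length = 63 from rfl]
    rw [e, show 63 = 2 * 31 + 1 from rfl, pow_succ, pow_mul, sq, hinv, one_pow, one_mul] at h7
    exact h7
  rw [SetLike.mem_coe, ← Abelianization.ker_of Cover, MonoidHom.mem_ker, hall, hd]

theorem stem_cover : Cfsg.IsStemExtension proj :=
  ⟨proj_surjective, by rw [ker_proj]; exact Subgroup.zpowers_le.2 centralSix_center,
    by rw [commutator_cover]; exact le_top⟩

theorem multiplier : Cfsg.HasCyclicSchurMultiplier Cfsg.Spor.Fi22 6 := by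
  haveI hcyc : IsCyclic proj.ker := by rw [ker_proj]; infer_instance
  let e : Multiplicative (ZMod 6) ≃* proj.ker :=
    mulEquivOfCyclicCardEq (by rw [card_ker_proj, Nat.card_congr Multiplicative.toAdd, Nat.card_zmod])
  refine ⟨⟨Cover, inferInstance, finite_cover, proj, stem_cover, ⟨e.symm⟩⟩, ?_⟩
  intro Γ _ _ σ hσ
  obtain ⟨hsurj, hcen, hcom⟩ := hσ
  obtain ⟨F, hF, hcov⟩ := exists_lift σ hcen hsurj
  have hcomp : σ.comp hcov.hom = proj := by
    refine PresentedGroup.ext fun x => ?_
    show σ (hcov.hom (gen x)) = proj (gen x)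
    rw [hcov.hom_gen, hF]; exact (covers₂₂.hom_gen x).symm
  let π₀ : proj.ker →* σ.ker :=
    (hcov.hom.comp proj.ker.subtype).codRestrict σ.ker fun y => by
      rw [MonoidHom.mem_ker, MonoidHom.comp_apply, ← MonoidHom.comp_apply, hcomp]; exact y.2
  refine ⟨π₀.comp e.toMonoidHom, ?_⟩
  rw [MonoidHom.coe_comp]
  refine Function.Surjective.comp ?_ e.surjective
  -- the lifts generate
  have hdec : ∀ g : Γ, ∃ p, (hcov.hom p)⁻¹ * g ∈ Subgroup.center Γ := fun g => by
    obtain ⟨p, hp⟩ := proj_surjective (σ g)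
    refine ⟨p, hcen (MonoidHom.mem_ker.2 ?_)⟩
    rw [map_mul, map_inv, ← MonoidHom.comp_apply, hcomp, hp, inv_mul_cancel]
  have hrange : commutator Γ ≤ hcov.hom.range := by
    rw [commutator_def, Subgroup.commutator_le]
    intro g₁ _ g₂ _
    obtain ⟨p₁, h₁⟩ := hdec g₁
    obtain ⟨p₂, h₂⟩ := hdec g₂
    refine ⟨p₁ * p₂ * p₁⁻¹ * p₂⁻¹, ?_⟩
    set z₁ := (hcov.hom p₁)⁻¹ * g₁ with hz₁
    set z₂ := (hcov.hom p₂)⁻¹ * g₂ with hz₂
    have m₁ := Subgroup.mem_center_iff.1 h₁
    have m₂ := Subgroup.mem_center_iff.1 h₂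
    have e₁ : g₁ = hcov.hom p₁ * z₁ := by rw [hz₁]; group
    have e₂ : g₂ = hcov.hom p₂ * z₂ := by rw [hz₂]; group
    clear_value z₁ z₂
    rw [map_mul, map_mul, map_mul, map_inv, map_inv, e₁, e₂, commutatorElement_def, mul_inv_rev,
      mul_inv_rev]
    symm
    calc hcov.hom p₁ * z₁ * (hcov.hom p₂ * z₂) * (z₁⁻¹ * (hcov.hom p₁)⁻¹) * (z₂⁻¹ * (hcov.hom p₂)⁻¹)
        = hcov.hom p₁ * (z₁ * (hcov.hom p₂ * z₂) * z₁⁻¹) * ((hcov.hom p₁)⁻¹ * z₂⁻¹) *
            (hcov.hom p₂)⁻¹ := by group
      _ = hcov.hom p₁ * (hcov.hom p₂ * z₂) * ((hcov.hom p₁)⁻¹ * z₂⁻¹) * (hcov.hom p₂)⁻¹ := by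
          rw [← m₁ (hcov.hom p₂ * z₂), mul_inv_cancel_right]
      _ = hcov.hom p₁ * hcov.hom p₂ * (z₂ * (hcov.hom p₁)⁻¹ * z₂⁻¹) * (hcov.hom p₂)⁻¹ := by group
      _ = _ := by rw [← m₂ (hcov.hom p₁)⁻¹, mul_inv_cancel_right]
  rintro ⟨k, hk⟩
  obtain ⟨p, hp⟩ := hrange (hcom hk)
  refine ⟨(⟨p, ?_⟩ : proj.ker), Subtype.ext hp⟩
  rw [MonoidHom.mem_ker, ← hcomp, MonoidHom.comp_apply, hp]
  exact hk

end Cfsg.Agent.Lib.Fi22Mult
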